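import Cfsg.Agent.Lib.Classical.GeoFour.SU.OrthSub.Plane
import Cfsg.Agent.Lib.Classical.GeoFour.SU.OrthSub.Axes
import Cfsg.Agent.Lib.Classical.GeoFour.SU.OrthSub.Top
import Cfsg.Agent.Lib.Classical.GeoThree.SU.Stab

/-!
# Overgroups of the three-dimensional orthogonal subfield group

Half turns about rational points give the moves; without a transvection every element fixing a rational isotropic
point is rational, and hence every rational isotropic point is orthogonal to a rational point with rational image.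
-/

set_option autoImplicit false
set_option linter.unusedSectionVars false
set_option linter.unusedSimpArgs false
set_option backward.isDefEq.respectTransparency false

open Module

namespace CfsgLib.Classical.GeoThree.SU.OrthSub

open SubfieldOrth (IsOFrame)
open SubfieldMax (coe_smul_eq smul_mem')
open GeoFour.SU.OrthSub (Pres Over NoTv)

variable {F : Type*} [Field F] [Fintype F] {V : Type*} [AddCommGroup V] [Module F V] [FiniteDimensional F V]
  {σ : F →+* F} {F₀ : Subfield F} {B : V →ₛₗ[σ] V →ₗ[F] F} {V₀ : Submodule F₀ V} {ε : F}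

variable (hR : IsOFrame B V₀ ε) (h3 : finrank F V = 3)
include hR h3

/-- A rational vector orthogonal to two given ones. -/
theorem exists_perp (y₀ y₁ : V₀) : ∃ x : V₀, x ≠ 0 ∧ B (y₀ : V) (x : V) = 0 ∧ B (y₁ : V) (x : V) = 0 := by
  obtain ⟨x, hx, hx0⟩ : ∃ x ∈ LinearMap.ker ((hR.form₀ y₀).prod (hR.form₀ y₁)), x ≠ 0 := by
    refine Submodule.exists_mem_ne_zero_of_ne_bot fun hbot => ?_
    have h1 := ((hR.form₀ y₀).prod (hR.form₀ y₁)).finrank_range_add_finrank_ker
    have h2 : finrank F₀ (LinearMap.range ((hR.form₀ y₀).prod (hR.form₀ y₁))) ≤ 2 :=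
      (Submodule.finrank_le _).trans (by simp)
    have := h3 ▸ hR.finrank_le
    rw [hbot, finrank_bot] at h1
    omega
  simp [Prod.ext_iff, hR.form₀_eq_zero] at hx
  exact ⟨x, hx0, hx.1, hx.2⟩

/-- There is a rational isotropic vector. -/
theorem exists_iso : ∃ d : V₀, d ≠ 0 ∧ B (d : V) (d : V) = 0 := by
  classical
  haveI := Fintype.ofFinite F₀
  have hK2 : ringChar F₀ ≠ 2 := fun h => hR.two₀ (by
    have := ringChar.Nat.cast_ringChar (R := F₀)
    rw [h] at this; exact_mod_cast this)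
  by_contra hc
  push Not at hc
  have hne : Nontrivial V₀ := Module.nontrivial_of_finrank_pos (R := F₀) (by have := h3 ▸ hR.finrank_le; omega)
  obtain ⟨p, hp⟩ := exists_ne (0 : V₀)
  obtain ⟨q, hq, hpq, -⟩ := exists_perp hR h3 p 0
  obtain ⟨r, hr, hpr, hqr⟩ := exists_perp hR h3 p q
  obtain ⟨x, y, hxy⟩ := GeoFour.SU.OrthSub.binary_represents hK2 (r := hR.form₀ p p) (s := hR.form₀ q q)
    (fun e => hc p hp (hR.form₀_eq_zero.1 e)) (fun e => hc q hq (hR.form₀_eq_zero.1 e)) (-hR.form₀ r r)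
  have hxy' : B (p : V) (p : V) * ((x : F) * x) + B (q : V) (q : V) * ((y : F) * y) = -B (r : V) (r : V) := by
    simpa [hR.form₀_coe] using congrArg (Subtype.val : F₀ → F) hxy
  have hv : B ((x • p + y • q + r : V₀) : V) ((x • p + y • q + r : V₀) : V) = 0 := by
    simp [coe_smul_eq, hR.sigma_coe, hpq, hR.symm_zero hpq, hpr, hR.symm_zero hpr, hqr, hR.symm_zero hqr]
    linear_combination hxy'
  refine hc r hr ?_
  by_contra hrr
  refine hc (x • p + y • q + r) (fun e => hrr ?_) hv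
  have h := congrArg (fun z : V₀ => B (r : V) (z : V)) e
  simpa [coe_smul_eq, hR.symm_zero hpr, hR.symm_zero hqr] using h

/-- A hyperbolic pair and its orthogonal. -/
theorem exists_triple {d : V₀} (hd : B (d : V) (d : V) = 0) (hd0 : d ≠ 0) :
    ∃ f b : V₀, B (f : V) (f : V) = 0 ∧ B (d : V) (f : V) = 1 ∧ B (f : V) (d : V) = 1 ∧
      B (d : V) (b : V) = 0 ∧ B (b : V) (d : V) = 0 ∧ B (f : V) (b : V) = 0 ∧ B (b : V) (f : V) = 0 ∧
      B (b : V) (b : V) ≠ 0 ∧
      ∀ z : V, z = B (f : V) z • (d : V) + B (d : V) z • (f : V) + (B (b : V) z / B (b : V) (b : V)) • (b : V) := by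
  obtain ⟨f, hff, hdf, hfd⟩ := GeoFour.SU.OrthSub.exists_aniso_perp_line hR hd hd0
  obtain ⟨b, hb0, hdb, hfb⟩ := exists_perp hR h3 d f
  have hb0' : (b : V) ≠ 0 := fun e => hb0 (Subtype.ext e)
  set L : V →ₗ[F] F × F := (B (d : V)).prod (B (f : V)) with hL
  have hrange : LinearMap.range L = ⊤ := by
    refine LinearMap.range_eq_top.2 fun p => ⟨p.1 • (f : V) + p.2 • (d : V), ?_⟩
    simp [hL, hd, hff, hdf, hfd]
  have hker : LinearMap.ker L = Submodule.span F {(b : V)} := by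
    refine (Submodule.eq_of_le_of_finrank_eq ?_ ?_).symm
    · rw [Submodule.span_singleton_le_iff_mem, LinearMap.mem_ker]
      simp [hL, hdb, hfb]
    · have h1 := L.finrank_range_add_finrank_ker
      rw [hrange, finrank_top, h3, Module.finrank_prod, Module.finrank_self] at h1
      rw [finrank_span_singleton hb0']
      omega
  have hbd := hR.symm_zero hdb
  have hbf := hR.symm_zero hfb
  have hdec : ∀ z : V, ∃ c : F, z = B (f : V) z • (d : V) + B (d : V) z • (f : V) + c • (b : V) := fun z => by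
    have hz : z - B (f : V) z • (d : V) - B (d : V) z • (f : V) ∈ LinearMap.ker L := by
      rw [LinearMap.mem_ker]
      simp [hL, hd, hff, hdf, hfd]
    rw [hker, Submodule.mem_span_singleton] at hz
    obtain ⟨c, hc⟩ := hz
    exact ⟨c, by rw [hc]; abel⟩
  have hbb : B (b : V) (b : V) ≠ 0 := fun e => hb0' (hR.nondeg _ fun z => by
    obtain ⟨c, hc⟩ := hdec z
    rw [hc]; simp [hdb, hfb, e])
  refine ⟨f, b, hff, hdf, hfd, hdb, hbd, hfb, hbf, hbb, fun z => ?_⟩
  obtain ⟨c, hc⟩ := hdec z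
  have h1 : B (b : V) z = c * B (b : V) (b : V) := by
    conv_lhs => rw [hc]
    simp [hbd, hbf]
  rw [h1, mul_div_cancel_right₀ _ hbb]
  exact hc

/-- An isotropic vector orthogonal to a rational isotropic vector is a multiple of it. -/
theorem iso_perp {d : V₀} (hd : B (d : V) (d : V) = 0) (hd0 : d ≠ 0) {y : V} (hyy : B y y = 0)
    (hdy : B (d : V) y = 0) : y = B ((exists_triple hR h3 hd hd0).choose : V) y • (d : V) := by
  obtain ⟨b, hff, hdf, hfd, hdb, hbd, hfb, hbf, hbb, hdec⟩ := (exists_triple hR h3 hd hd0).choose_spec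
  set f := (exists_triple hR h3 hd hd0).choose
  set c := B (b : V) y / B (b : V) (b : V) with hcdef
  have hy : y = B (f : V) y • (d : V) + c • (b : V) := by
    conv_lhs => rw [hdec y, hdy, zero_smul, add_zero]
  have h1 : σ c * c * B (b : V) (b : V) = 0 := by
    have h := hyy
    rw [hy, hR.herm.add_self, hR.herm.smul_self, hR.herm.smul_self, hd, map_smul, map_smulₛₗ,
      LinearMap.smul_apply, hdb, smul_zero, smul_zero] at h
    simp at h
    rcases h with h | h
    all_goals simp [h, hbb]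
  have hc : c = 0 := by
    rcases mul_eq_zero.1 ((mul_eq_zero.1 h1).resolve_right hbb) with h | h
    · rw [← hR.invol c, h, map_zero]
    · exact h
  conv_lhs => rw [hy, hc, zero_smul, add_zero]

theorem iso_perp' {d : V₀} (hd : B (d : V) (d : V) = 0) (hd0 : d ≠ 0) {y : V} (hyy : B y y = 0)
    (hdy : B (d : V) y = 0) : ∃ c : F, y = c • (d : V) :=
  ⟨_, iso_perp hR h3 hd hd0 hyy hdy⟩

/-- The half turn about an anisotropic point. -/
theorem exists_turn {y : V} (hy : B y y ≠ 0) :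
    ∃ t : isomGroup B, idet B t = 1 ∧ ∀ z, t.1 z = (2 / B y y * B y z) • y - z := by
  obtain ⟨r, hr, hrd⟩ := hR.herm.exists_qr hR.nondeg (z := y) hy (l := -1) (by simp)
  obtain ⟨N, hN⟩ := hR.herm.exists_of_preserving hR.nondeg (-LinearMap.id) fun x z => by simp
  refine ⟨N * r, ?_, fun z => ?_⟩
  · have e : (N.1 : V →ₗ[F] V) = (-1 : F) • LinearMap.id := LinearMap.ext fun z => by simp [hN]
    have hNd : idet B N = -1 := by
      change LinearMap.det (N.1 : V →ₗ[F] V) = -1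
      rw [e, LinearMap.det_smul, LinearMap.det_id, h3]
      ring
    rw [map_mul, hNd, hrd]; ring
  · rw [Subgroup.coe_mul, LinearEquiv.mul_apply, hN, hr]
    simp only [LinearMap.neg_apply, LinearMap.id_apply]
    match_scalars <;> ring

variable {M : Subgroup (isomGroup B)} (hO : Over B V₀ M)
include hO

/-- Half turns about rational points. -/
theorem exists_rat_turn {p : V₀} (hp : B (p : V) (p : V) ≠ 0) :
    ∃ t ∈ M, (∀ x ∈ V₀, t.1 x ∈ V₀) ∧
      ∀ z, t.1 z = (2 / B (p : V) (p : V) * B (p : V) z) • (p : V) - z := by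
  obtain ⟨t, htd, ht⟩ := exists_turn hR h3 hp
  have hV : ∀ x ∈ V₀, t.1 x ∈ V₀ := fun x hx => by
    rw [ht]
    exact sub_mem (smul_mem' (mul_mem (div_mem ((hR.fixed _).2 (map_ofNat σ 2)) (hR.form _ p.2 _ p.2))
      (hR.form _ p.2 _ hx)) p.2) hx
  exact ⟨t, hO.mem t htd ⟨1, one_ne_zero, fun x hx => by rw [one_smul]; exact hV x hx⟩, hV, ht⟩

/-- Rational isotropic points are conjugate. -/
theorem exists_move {d e : V₀} (hd : B (d : V) (d : V) = 0) (hd0 : d ≠ 0) (he : B (e : V) (e : V) = 0)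
    (he0 : e ≠ 0) : ∃ h ∈ M, (∀ x ∈ V₀, h.1 x ∈ V₀) ∧ ∃ c : F, c ∈ F₀ ∧ c ≠ 0 ∧ h.1 (d : V) = c • (e : V) := by
  by_cases hde : B (d : V) (e : V) = 0
  · obtain ⟨f, b, -, -, hfd, -⟩ := exists_triple hR h3 hd hd0
    obtain ⟨c, hc⟩ := iso_perp' hR h3 hd hd0 he hde
    have hc0 : c ≠ 0 := fun h => he0 (Subtype.ext (by rw [hc, h, zero_smul]; rfl))
    have hcF : c ∈ F₀ := by
      have h := hR.form _ f.2 _ e.2
      rwa [hc, map_smul, hfd, smul_eq_mul, mul_one] at h
    exact ⟨1, one_mem M, fun x hx => hx, c⁻¹, inv_mem hcF, inv_ne_zero hc0, by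
      rw [hc, smul_smul, inv_mul_cancel₀ hc0, one_smul]; rfl⟩
  have hed : B (e : V) (d : V) = B (d : V) (e : V) := hR.comm₀ e d
  have hn : B ((d + e : V₀) : V) ((d + e : V₀) : V) = 2 * B (d : V) (e : V) := by
    simp [hd, he, hed]; ring
  have hn0 : B ((d + e : V₀) : V) ((d + e : V₀) : V) ≠ 0 := by rw [hn]; exact mul_ne_zero hR.two hde
  obtain ⟨t, htM, htV, ht⟩ := exists_rat_turn hR h3 hO hn0
  refine ⟨t, htM, htV, 1, one_mem _, one_ne_zero, ?_⟩
  rw [ht, hn]
  simp only [Submodule.coe_add, map_add, LinearMap.add_apply, hd, hed, zero_add]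
  have := hR.two
  match_scalars <;> field_simp <;> ring

/-- The torus. -/
theorem exists_scale {d : V₀} (hd : B (d : V) (d : V) = 0) (hd0 : d ≠ 0) {a : F} (ha : a ∈ F₀) (ha0 : a ≠ 0) :
    ∃ T ∈ M, T.1 (d : V) = a • (d : V) := by
  obtain ⟨f, b, hff, hdf, hfd, -⟩ := exists_triple hR h3 hd hd0
  have h2 := hR.two
  have hk : ∀ k : F₀, B ((d + k • f : V₀) : V) ((d + k • f : V₀) : V) = 2 * k := fun k => by
    simp [coe_smul_eq, hd, hff, hdf, hfd, hR.sigma_coe]; ring
  obtain ⟨t₁, h₁, -, ht₁⟩ := exists_rat_turn hR h3 hO (p := d + (1 : F₀) • f)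
    (by rw [hk]; simpa using h2)
  obtain ⟨t₂, h₂, -, ht₂⟩ := exists_rat_turn hR h3 hO (p := d + (⟨a⁻¹, inv_mem ha⟩ : F₀) • f)
    (by rw [hk]; exact mul_ne_zero h2 (inv_ne_zero ha0))
  refine ⟨t₂ * t₁, mul_mem h₂ h₁, ?_⟩
  rw [Subgroup.coe_mul, LinearEquiv.mul_apply, ht₁, hk, ht₂, hk]
  simp [coe_smul_eq, hd, hff, hdf, hfd, hR.sigma_coe]
  match_scalars <;> field_simp <;> ring

/-- A transvection at a rational vector gives everything. -/
theorem sIsom_le_of_tv {d : V₀} (hd : B (d : V) (d : V) = 0) (hd0 : d ≠ 0) {g : isomGroup B} (hg : g ∈ M) {c : F}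
    (hgc : IsUTv g (d : V) c) (hc : c ≠ 0) (hbig : BigFixed σ) : sIsom B ≤ M := by
  let S : Set F := {k | ∃ h ∈ M, IsUTv h (d : V) k}
  have hsq : ∀ a : F, a ∈ F₀ → c * (a * a) ∈ S := by
    intro a ha
    by_cases ha0 : a = 0
    · exact ⟨1, one_mem M, hd, by rw [ha0]; simp, fun z => by rw [ha0]; simp⟩
    obtain ⟨T, hT, hTd⟩ := exists_scale hR h3 hO hd hd0 ha ha0
    refine ⟨_, mul_mem (mul_mem hT hg) (inv_mem hT), ?_⟩
    have h := hgc.conj T
    rw [hTd] at h
    have h' := GeoFour.SU.OrthSub.utv_scale hR hd h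
    rwa [(hR.fixed _).1 ha] at h'
  have hA₀ : IsTAxis M (d : V) := by
    intro g' c' hg'
    set s := c' / c with hs
    have hsF : s ∈ F₀ := (hR.fixed _).2 (by
      rw [hs, map_div₀, eq_neg_of_add_eq_zero_right hg'.2.1, eq_neg_of_add_eq_zero_right hgc.2.1, neg_div_neg_eq])
    have h2F : (2 : F) ∈ F₀ := (hR.fixed _).2 (map_ofNat σ 2)
    obtain ⟨h₁, h₁M, e₁⟩ := hsq ((s + 1) / 2) (div_mem (add_mem hsF (one_mem _)) h2F)
    obtain ⟨h₂, h₂M, e₂⟩ := hsq ((s - 1) / 2) (div_mem (sub_mem hsF (one_mem _)) h2F)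
    refine (Subgroup.mul_mem_cancel_right M h₂M).1 (?_ : g' * h₂ ∈ M)
    suffices g' * h₂ = h₁ by rw [this]; exact h₁M
    refine Subtype.ext (LinearEquiv.ext fun z => ?_)
    rw [Subgroup.coe_mul, LinearEquiv.mul_apply, e₂.2.2, hg'.2.2, e₁.2.2, map_add, map_smul, hd, smul_zero, add_zero,
      show c' = c * s by rw [hs, mul_div_cancel₀ _ hc]]
    have := hR.two
    match_scalars <;> field_simp <;> ring
  have hA : ∀ e : V₀, B (e : V) (e : V) = 0 → IsTAxis M (e : V) := by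
    intro e he
    by_cases he0 : e = 0
    · rw [he0]; simpa using hR.herm.isTAxis_zero M
    obtain ⟨h, hh, -, k, -, hk, hhd⟩ := exists_move hR h3 hO hd hd0 he he0
    have h1 := (hA₀.map hh).smul hR.invol (inv_ne_zero hk)
    rwa [hhd, smul_smul, inv_mul_cancel₀ hk, one_smul] at h1
  refine hR.herm.sIsom_le_of_axes_big hR.nondeg hbig fun v hvv => ?_
  by_cases hv0 : v = 0
  · rw [hv0]; exact hR.herm.isTAxis_zero M
  obtain ⟨u, huu, huv⟩ : ∃ u : V₀, B (u : V) (u : V) = 0 ∧ B (u : V) v ≠ 0 := by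
    by_contra hall
    push Not at hall
    obtain ⟨f, b, hff, hdf, hfd, hdb, hbd, hfb, hbf, hbb, hdec⟩ := exists_triple hR h3 hd hd0
    let k : F₀ := ⟨B (b : V) (b : V), hR.form _ b.2 _ b.2⟩ / 2
    have hk : (k : F) = B (b : V) (b : V) / 2 := rfl
    have h1 := hall d hd
    have h2 := hall f hff
    have h4 := hall (f + b - k • d) (by
      simp [coe_smul_eq, hd, hff, hdf, hfd, hdb, hbd, hfb, hbf, hR.sigma_coe]
      rw [hk]; have := hR.two; field_simp; ring)
    simp [coe_smul_eq, h1, h2] at h4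
    refine hv0 ?_
    rw [hdec v, h1, h2, h4, zero_div]
    simp
  suffices IsTAxis M ((B (u : V) v)⁻¹ • v) by
    have h' := this.smul hR.invol huv
    rwa [smul_smul, mul_inv_cancel₀ huv, one_smul] at h'
  set v₁ := (B (u : V) v)⁻¹ • v with hv₁
  have huv₁ : B (u : V) v₁ = 1 := by rw [hv₁, map_smul, smul_eq_mul, inv_mul_cancel₀ huv]
  have hvv₁ : B v₁ v₁ = 0 := by rw [hv₁, hR.herm.smul_self, hvv, mul_zero]
  obtain ⟨Y₀, Y₁, hY⟩ := hR.vec_decomp v₁
  obtain ⟨hY0, hY1⟩ : B (u : V) (Y₀ : V) = 1 ∧ B (u : V) (Y₁ : V) = 0 := by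
    rw [← hY, map_add, map_smul, smul_eq_mul] at huv₁
    obtain ⟨h1, h2⟩ := hR.scalar_zero (sub_mem (hR.form _ u.2 _ Y₀.2) (one_mem F₀)) (hR.form _ u.2 _ Y₁.2)
      (by linear_combination huv₁)
    exact ⟨sub_eq_zero.1 h1, h2⟩
  set Q := B (Y₁ : V) (Y₁ : V) with hQ
  let l : F₀ := (1 + ⟨ε * ε, hR.eps_sq⟩ * ⟨Q, hR.form _ Y₁.2 _ Y₁.2⟩ ^ 2) / 2 -
    ⟨B (Y₀ : V) (Y₁ : V), hR.form _ Y₀.2 _ Y₁.2⟩
  have hl : (l : F) = (1 + ε * ε * Q ^ 2) / 2 - B (Y₀ : V) (Y₁ : V) := rfl
  set Y' := Y₁ + l • u with hY'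
  have hQ' : B (Y' : V) (Y' : V) = Q := by
    simp [hY', coe_smul_eq, huu, hY1, hR.symm_zero hY1, hQ]
  have hC : B (Y₀ : V) (Y' : V) = (1 + ε * ε * Q ^ 2) / 2 := by
    simp [hY', coe_smul_eq, show B (Y₀ : V) (u : V) = 1 by rw [hR.comm₀, hY0], hl]
  have h00 : B (Y₀ : V) (Y₀ : V) = ε * ε * Q := by
    have h := GeoFour.SU.OrthSub.self_parts hR Y₀ Y₁
    rw [hY, hvv₁] at h
    linear_combination -h
  have hzz : B ((Y₀ : V) + ε • (Y' : V)) ((Y₀ : V) + ε • (Y' : V)) = 0 := by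
    rw [GeoFour.SU.OrthSub.self_parts hR, hQ', h00]; ring
  have hz := GeoFour.SU.OrthSub.plane_axis hR hA rfl hzz (Y := (1 - ε * ε * Q ^ 2) / 2)
    (div_mem (sub_mem (one_mem _) (mul_mem hR.eps_sq (pow_mem (hR.form _ Y₁.2 _ Y₁.2) 2)))
      ((hR.fixed _).2 (map_ofNat σ 2))) (by
      refine div_ne_zero (fun h => ?_) hR.two
      by_cases hQ0 : Q = 0
      · simp [hQ0] at h
      have hfix : σ (ε * Q) = ε * Q := by
        have h1 : (ε * Q) ^ 2 = 1 := by linear_combination -h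
        rcases sq_eq_one_iff.1 h1 with e | e <;> simp [e]
      rw [map_mul, hR.eps_tr, hQ, GeoFour.SU.OrthSub.real hR, ← hQ] at hfix
      exact mul_ne_zero hR.two (mul_ne_zero hR.eps_ne hQ0) (by linear_combination -hfix))
    (by rw [hC, h00, hQ']; have := hR.two; field_simp; ring)
  obtain ⟨t, ht⟩ := hR.herm.exists_uTv hR.nondeg (v := (u : V)) (c := -(ε * l)) huu
    (by rw [map_neg, map_mul, hR.eps_tr, hR.sigma_coe]; ring)
  have htz : t.1 ((Y₀ : V) + ε • (Y' : V)) = v₁ := by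
    rw [ht.2.2, hY', ← hY, map_add, map_smul, hY0]
    simp only [Submodule.coe_add, SetLike.val_smul, coe_smul_eq, map_add, map_smul, hY1, huu, smul_eq_mul, mul_zero,
      add_zero]
    module
  rw [← htz]
  exact hz.map (hA u huu t _ ht)

/-- The Siegel element of a rational vector orthogonal to a rational isotropic one. -/
theorem exists_sieg {d x : V₀} (hd : B (d : V) (d : V) = 0) (hx : B (x : V) (x : V) ≠ 0)
    (hdx : B (d : V) (x : V) = 0) : ∃ S ∈ M, ∀ z, S.1 z =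
      z + (-B (x : V) z - B (x : V) (x : V) / 2 * B (d : V) z) • (d : V) + B (d : V) z • (x : V) := by
  let s : F₀ := -(⟨B (x : V) (x : V), hR.form _ x.2 _ x.2⟩ / 2)
  have hs : (s : F) = -(B (x : V) (x : V) / 2) := rfl
  have hxd := hR.symm_zero hdx
  have hq : B ((x + s • d : V₀) : V) ((x + s • d : V₀) : V) = B (x : V) (x : V) := by
    simp [coe_smul_eq, hd, hdx, hxd]
  obtain ⟨t₁, h₁, -, ht₁⟩ := exists_rat_turn hR h3 hO hx
  obtain ⟨t₂, h₂, -, ht₂⟩ := exists_rat_turn hR h3 hO (p := x + s • d) (by rwa [hq])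
  refine ⟨t₂ * t₁, mul_mem h₂ h₁, fun z => ?_⟩
  rw [Subgroup.coe_mul, LinearEquiv.mul_apply, ht₁, ht₂, hq]
  simp [coe_smul_eq, hdx, hxd, hR.sigma_coe]
  rw [hs]
  have := hR.two
  match_scalars <;> field_simp <;> ring

variable (hN : NoTv M V₀)
include hN

/-- A member fixing a rational isotropic point is rational up to a scalar. -/
theorem pres_of_fix {m : isomGroup B} (hm : m ∈ M) {d : V₀} (hd : B (d : V) (d : V) = 0) (hd0 : d ≠ 0) {c : F}
    (hmd : m.1 (d : V) = c • (d : V)) : Pres V₀ m := by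
  obtain ⟨f, b, hff, hdf, hfd, hdb, hbd, hfb, hbf, hbb, hdec⟩ := exists_triple hR h3 hd hd0
  have hc : c ≠ 0 := fun e => hd0 (Subtype.ext (m.1.map_eq_zero_iff.1 (by rw [hmd, e, zero_smul])))
  have hσc : σ c ≠ 0 := (map_ne_zero σ).2 hc
  have h2 := hR.two
  obtain ⟨S, hS, hSz⟩ := exists_sieg hR h3 hO hd hbb hdb
  set Y := σ c • m.1 (b : V) with hY
  set K := m * S * m⁻¹ with hK
  have hKM : K ∈ M := mul_mem (mul_mem hm hS) (inv_mem hm)
  have hdY : B (d : V) Y = 0 := by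
    have h := isomGroup_apply m (d : V) (b : V)
    rw [hmd, map_smulₛₗ, LinearMap.smul_apply, hdb, smul_eq_mul] at h
    rw [hY, map_smul, smul_eq_mul, (mul_eq_zero.1 h).resolve_left hσc, mul_zero]
  have hYY : B Y Y = c * σ c * B (b : V) (b : V) := by
    rw [hY, hR.herm.smul_self, isomGroup_apply, hR.invol]; ring
  have hKz : ∀ z, K.1 z = z + (-B Y z - B Y Y / 2 * B (d : V) z) • (d : V) + B (d : V) z • Y := by
    intro z
    obtain ⟨w, rfl⟩ := m.1.surjective z
    change m.1 (S.1 (m.1.symm (m.1 w))) = _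
    have e : B (d : V) w = σ c * B (d : V) (m.1 w) := by
      have h := isomGroup_apply m (d : V) w
      rw [hmd, map_smulₛₗ, LinearMap.smul_apply, smul_eq_mul] at h
      exact h.symm
    rw [LinearEquiv.symm_apply_apply, hSz, map_add, map_add, map_smul, map_smul, hmd, hYY, hY, map_smulₛₗ,
      LinearMap.smul_apply, isomGroup_apply, hR.invol, e, smul_eq_mul]
    match_scalars <;> ring
  -- commutators
  have hcomm : ∀ x : V₀, B (x : V) (x : V) ≠ 0 → B (d : V) (x : V) = 0 → B Y (x : V) = B (x : V) Y := by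
    intro x hx hdx
    obtain ⟨R, hRM, hRz⟩ := exists_sieg hR h3 hO hd hx hdx
    obtain ⟨t, ht⟩ := hR.herm.exists_uTv hR.nondeg (v := (d : V)) (c := B Y (x : V) - B (x : V) Y) hd
      (by rw [map_sub, hR.symm, hR.symm]; ring)
    have htM : t ∈ M := by
      have hab : R * K = t * (K * R) := Subtype.ext (LinearEquiv.ext fun z => by
        simp only [Subgroup.coe_mul, LinearEquiv.mul_apply, hKz, hRz, ht.2.2, map_add, map_smul, smul_eq_mul, hd,
          hdx, hdY, hR.symm_zero hdx, hR.symm_zero hdY]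
        match_scalars <;> ring)
      have := mul_mem (mul_mem hRM hKM) (inv_mem (mul_mem hKM hRM))
      rwa [hab, mul_inv_cancel_right] at this
    exact sub_eq_zero.1 (hN d hd0 hd t htM _ ht)
  set μ := B (b : V) Y / B (b : V) (b : V) with hμdef
  have hμF : μ ∈ F₀ := by
    refine div_mem ((hR.fixed _).2 ?_) (hR.form _ b.2 _ b.2)
    rw [hR.symm, hcomm b hbb hdb]
  have hYdec : Y = B (f : V) Y • (d : V) + μ • (b : V) := by
    conv_lhs => rw [hdec Y, hdY, zero_smul, add_zero]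
  have hμ0 : μ ≠ 0 := fun e => by
    have h := hYY
    rw [hYdec, e, zero_smul, add_zero, hR.herm.smul_self, hd, mul_zero] at h
    exact mul_ne_zero (mul_ne_zero hc hσc) hbb h.symm
  obtain ⟨r₀, l, hrl⟩ := hR.scalar_decomp (B (f : V) Y)
  set X := r₀ • d + (⟨μ, hμF⟩ : F₀) • b with hX
  have hYX : Y = (X : V) + (ε * l) • (d : V) := by
    rw [hYdec, ← hrl, hX]
    simp [coe_smul_eq]
    module
  have hdX : B (d : V) (X : V) = 0 := by simp [hX, coe_smul_eq, hd, hdb]
  have hXd := hR.symm_zero hdX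
  have hYY' : B Y Y = B (X : V) (X : V) := by
    rw [hYX]; simp [hd, hdX, hXd]
  have hXX : B (X : V) (X : V) ≠ 0 := by rw [← hYY', hYY]; exact mul_ne_zero (mul_ne_zero hc hσc) hbb
  obtain ⟨R, hRM, hRz⟩ := exists_sieg hR h3 hO hd hXX hdX
  obtain ⟨t, ht⟩ := hR.herm.exists_uTv hR.nondeg (v := (d : V)) (c := 2 * (ε * l)) hd
    (by rw [map_mul, map_mul, map_ofNat, hR.eps_tr, hR.sigma_coe]; ring)
  have htM : t ∈ M := by
    have hab : K = t * R := Subtype.ext (LinearEquiv.ext fun z => by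
      rw [hKz, Subgroup.coe_mul, LinearEquiv.mul_apply, hRz, ht.2.2, hYY', hYX]
      simp only [map_add, map_smul, map_smulₛₗ, LinearMap.add_apply, LinearMap.smul_apply, smul_eq_mul, hd, hdX,
        map_mul, hR.eps_tr, hR.sigma_coe]
      match_scalars <;> ring)
    have := mul_mem hKM (inv_mem hRM)
    rwa [hab, mul_inv_cancel_right] at this
  have hl : (l : F) = 0 :=
    (mul_eq_zero.1 ((mul_eq_zero.1 (hN d hd0 hd t htM _ ht)).resolve_left h2)).resolve_left hR.eps_ne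
  have hYV : Y ∈ V₀ := by rw [hYX, hl, mul_zero, zero_smul, add_zero]; exact X.2
  -- the image of the partner
  set Z := σ c • m.1 (f : V) with hZ
  have hdZ : B (d : V) Z = 1 := by
    have h := isomGroup_apply m (d : V) (f : V)
    rw [hmd, map_smulₛₗ, LinearMap.smul_apply, hdf, smul_eq_mul] at h
    rw [hZ, map_smul, smul_eq_mul, h]
  have hYZ : B Y Z = 0 := by
    rw [hY, hZ, map_smul, map_smulₛₗ, LinearMap.smul_apply, isomGroup_apply, hbf, smul_zero, smul_zero]
  set θ := B (b : V) Z / B (b : V) (b : V) with hθdef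
  have hθF : θ ∈ F₀ := by
    have hr : B (f : V) Y ∈ F₀ := hR.form _ f.2 _ hYV
    have hlin : B Y Z = σ (B (f : V) Y) * B (d : V) Z + σ μ * B (b : V) Z := by
      conv_lhs => rw [hYdec]
      simp only [map_add, LinearMap.add_apply, map_smulₛₗ, LinearMap.smul_apply, smul_eq_mul]
    have h := hYZ
    rw [hlin, hdZ, (hR.fixed _).1 hr, (hR.fixed _).1 hμF, mul_one] at h
    have e : θ = -(B (f : V) Y) / (μ * B (b : V) (b : V)) := by
      rw [hθdef]
      field_simp
      linear_combination h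
    rw [e]
    exact div_mem (neg_mem hr) (mul_mem hμF (hR.form _ b.2 _ b.2))
  have hZdec : Z = B (f : V) Z • (d : V) + (f : V) + θ • (b : V) := by
    conv_lhs => rw [hdec Z, hdZ, one_smul]
  obtain ⟨r₁, l₁, hrl₁⟩ := hR.scalar_decomp (B (f : V) Z)
  obtain ⟨τ, hτ⟩ := hR.herm.exists_uTv hR.nondeg (v := (d : V)) (c := -(ε * l₁)) hd
    (by rw [map_neg, map_mul, hR.eps_tr, hR.sigma_coe]; ring)
  have hpres : Pres V₀ (τ * m) := by
    refine ⟨σ c, hσc, fun z hz => ?_⟩
    have key : ∀ a₀ b₀ c₀ : F, σ c • τ.1 (m.1 (a₀ • (d : V) + b₀ • (f : V) + c₀ • (b : V))) =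
        a₀ • (σ c • τ.1 (c • (d : V))) + b₀ • (σ c • τ.1 (m.1 (f : V))) + c₀ • (σ c • τ.1 (m.1 (b : V))) :=
      fun a₀ b₀ c₀ => by
        simp only [map_add, map_smul, hmd]
        module
    rw [Subgroup.coe_mul, LinearEquiv.mul_apply, hdec z, key]
    refine add_mem (add_mem (smul_mem' (hR.form _ f.2 _ hz) ?_) (smul_mem' (hR.form _ d.2 _ hz) ?_))
      (smul_mem' (div_mem (hR.form _ b.2 _ hz) (hR.form _ b.2 _ b.2)) ?_)
    · rw [hτ.2.2, map_smul, hd, smul_zero, mul_zero, zero_smul, add_zero, smul_smul]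
      exact smul_mem' ((hR.fixed _).2 (by rw [map_mul, hR.invol, mul_comm])) d.2
    · rw [hτ.2.2, smul_add, smul_smul, ← hZ,
        show σ c * (-(ε * l₁) * B (d : V) (m.1 (f : V))) = -(ε * l₁) * B (d : V) Z by
          rw [hZ, map_smul, smul_eq_mul]; ring,
        hdZ, mul_one, hZdec, ← hrl₁,
        show ((r₁ : F) + ε * l₁) • (d : V) + (f : V) + θ • (b : V) + -(ε * (l₁ : F)) • (d : V) =
          (r₁ : F) • (d : V) + (f : V) + θ • (b : V) by module]
      exact add_mem (add_mem (smul_mem' r₁.2 d.2) f.2) (smul_mem' hθF b.2)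
    · have h0 : B (d : V) (m.1 (b : V)) = 0 := by
        rw [hY, map_smul, smul_eq_mul] at hdY
        exact (mul_eq_zero.1 hdY).resolve_left hσc
      rw [hτ.2.2, h0, mul_zero, zero_smul, add_zero, ← hY]
      exact hYV
  have hdet : idet B (τ * m) = 1 := by rw [map_mul, hR.herm.idet_uTv hτ, hO.det m hm, one_mul]
  have h0 := hN d hd0 hd τ ((Subgroup.mul_mem_cancel_right M hm).1 (hO.mem _ hdet hpres)) _ hτ
  rwa [show τ = 1 from Subtype.ext (LinearEquiv.ext fun z => by rw [hτ.2.2, h0]; simp), one_mul] at hpres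

/-- A member mapping a rational isotropic point to a rational point is rational up to a scalar. -/
theorem pres_of_image {g : isomGroup B} (hg : g ∈ M) {d e : V₀} (hd : B (d : V) (d : V) = 0) (hd0 : d ≠ 0) {μ : F}
    (hge : g.1 (d : V) = μ • (e : V)) : Pres V₀ g := by
  have hμ : μ ≠ 0 := fun h => hd0 (Subtype.ext (g.1.map_eq_zero_iff.1 (by rw [hge, h, zero_smul])))
  have he : B (e : V) (e : V) = 0 := by
    have h := isomGroup_apply g (d : V) (d : V)
    rw [hge, hd, hR.herm.smul_self] at h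
    exact (mul_eq_zero.1 h).resolve_left (mul_ne_zero hμ ((map_ne_zero σ).2 hμ))
  have he0 : e ≠ 0 := fun h => hd0 (Subtype.ext (g.1.map_eq_zero_iff.1 (by rw [hge, h]; simp)))
  obtain ⟨h, hhM, hhV, k, hk, hk0, hhe⟩ := exists_move hR h3 hO he he0 hd hd0
  obtain ⟨s, hs, hsV⟩ := pres_of_fix hR h3 hO hN (mul_mem hg hhM) he he0 (c := k * μ)
    (by rw [Subgroup.coe_mul, LinearEquiv.mul_apply, hhe, map_smul, hge, smul_smul])
  refine ⟨s, hs, fun y hy => ?_⟩
  let L : V₀ →ₗ[F₀] V₀ :=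
    { toFun := fun x => ⟨h.1 (x : V), hhV _ x.2⟩
      map_add' := fun a b => Subtype.ext (by simp)
      map_smul' := fun c a => Subtype.ext (by simp [coe_smul_eq]) }
  obtain ⟨x, hx⟩ := LinearMap.injective_iff_surjective.1
    (fun a b hab => Subtype.ext (h.1.injective (congrArg Subtype.val hab)) : Function.Injective L) ⟨y, hy⟩
  have := hsV _ x.2
  rwa [Subgroup.coe_mul, LinearEquiv.mul_apply, show h.1 (x : V) = y from congrArg Subtype.val hx] at this

/-- Every rational isotropic point is orthogonal to a rational point with rational image. -/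
theorem exists_point {g : isomGroup B} (hg : g ∈ M) {d : V₀} (hd : B (d : V) (d : V) = 0) (hd0 : d ≠ 0) :
    ∃ x : V₀, x ≠ 0 ∧ B (d : V) (x : V) = 0 ∧ B (x : V) (x : V) ≠ 0 ∧ ∃ s : F, s ≠ 0 ∧ s • g.1 (x : V) ∈ V₀ := by
  obtain ⟨f, b, hff, hdf, hfd, hdb, hbd, hfb, hbf, hbb, hdec⟩ := exists_triple hR h3 hd hd0
  by_cases hgP : Pres V₀ g
  · obtain ⟨s, hs, hsV⟩ := hgP
    exact ⟨b, fun e => hbb (by simp [e]), hdb, hbb, s, hs, hsV _ b.2⟩
  set w := g.1 (d : V) with hw
  obtain ⟨w₀, w₁, hw01⟩ := hR.vec_decomp w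
  obtain ⟨P, hP0, hP₀, hP₁⟩ := exists_perp hR h3 w₀ w₁
  have hPw : B (P : V) w = 0 := by
    rw [← hw01, map_add, map_smul, hR.symm_zero hP₀, hR.symm_zero hP₁, smul_zero, add_zero]
  have hPP : B (P : V) (P : V) ≠ 0 := fun e => by
    obtain ⟨k, hk⟩ := iso_perp' hR h3 e hP0 (y := w) (by rw [hw, isomGroup_apply, hd]) hPw
    exact hgP (pres_of_image hR h3 hO hN hg hd hd0 (e := P) hk)
  obtain ⟨t, htM, -, ht⟩ := exists_rat_turn hR h3 hO hPP
  set m := g⁻¹ * t * g with hm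
  have hmz : ∀ z, g.1 (m.1 z) = t.1 (g.1 z) := fun z => g.1.apply_symm_apply _
  have hmd : m.1 (d : V) = (-1 : F) • (d : V) := g.1.injective (by
    rw [hmz, ← hw, ht, hPw, mul_zero, zero_smul, zero_sub, map_smul, neg_one_smul])
  obtain ⟨s, hs, hsV⟩ := pres_of_fix hR h3 hO hN (mul_mem (mul_mem (inv_mem hg) htM) hg) hd hd0 hmd
  have hsF : s ∈ F₀ := by
    have h := hR.form _ f.2 _ (hsV _ d.2)
    rw [hmd, map_smul, map_smul, hfd, smul_eq_mul, smul_eq_mul] at h
    simpa using neg_mem h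
  have hmV : ∀ z ∈ V₀, m.1 z ∈ V₀ := fun z hz => by
    have := smul_mem' (inv_mem hsF) (hsV z hz)
    rwa [smul_smul, inv_mul_cancel₀ hs, one_smul] at this
  set u := (g⁻¹ : isomGroup B).1 (P : V) with hu
  have hgu : g.1 u = P := g.1.apply_symm_apply _
  have hmu : ∀ z, m.1 z = (2 / B (P : V) (P : V) * B u z) • u - z := fun z => g.1.injective (by
    rw [hmz, ht, map_sub, map_smul, hgu, ← isomGroup_apply g u z, hgu])
  obtain ⟨z, hz, huz⟩ : ∃ z ∈ V₀, B u z ≠ 0 := by
    by_contra hall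
    push Not at hall
    have : u = 0 := hR.sep fun z hz => hR.symm_zero (hall z hz)
    exact hP0 (Subtype.ext (by rw [← hgu, this, map_zero]; rfl))
  set k := 2 / B (P : V) (P : V) * B u z with hkdef
  have hk0 : k ≠ 0 := mul_ne_zero (div_ne_zero hR.two hPP) huz
  have hxV : k • u ∈ V₀ := by
    have := add_mem (hmV z hz) hz
    rwa [hmu, sub_add_cancel] at this
  refine ⟨⟨k • u, hxV⟩, fun e => ?_, ?_, ?_, k⁻¹, inv_ne_zero hk0, ?_⟩
  · have h : k • u = 0 := congrArg Subtype.val e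
    rw [smul_eq_zero] at h
    exact hP0 (Subtype.ext (by rw [← hgu, h.resolve_left hk0, map_zero]; rfl))
  · show B (d : V) (k • u) = 0
    rw [map_smul, ← isomGroup_apply g (d : V) u, ← hw, hgu, hR.symm_zero hPw, smul_zero]
  · show B (k • u) (k • u) ≠ 0
    rw [hR.herm.smul_self, ← isomGroup_apply g u u, hgu]
    exact mul_ne_zero (mul_ne_zero hk0 ((map_ne_zero σ).2 hk0)) hPP
  · show k⁻¹ • g.1 (k • u) ∈ V₀
    rw [map_smul, smul_smul, inv_mul_cancel₀ hk0, one_smul, hgu]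
    exact P.2

end CfsgLib.Classical.GeoThree.SU.OrthSub
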