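import Cfsg.Agent.Lib.Classical.GeoThree.SU.OrthSub.Top
import Cfsg.Agent.Lib.Classical.UFrameMax.Main
import Cfsg.Agent.Lib.Classical.GeoMaxSmall.SU

/-!
# Subfield groups of orthogonal type are maximal in `SU_3(q)`, `q ≥ 7` odd
-/

set_option autoImplicit false
set_option linter.unusedSectionVars false
set_option backward.isDefEq.respectTransparency false

open Module Matrix Cfsg

namespace CfsgLib.Classical.GeoThree.SU

/-- Subfield groups of orthogonal type. -/
theorem subfieldOrth_maximal_three {F : Type*} [Field F] [Fintype F] (n q : ℕ) (hF : Fintype.card F = q ^ 2) (hn : n = 3) (hodd : Odd q) (h7 : 7 ≤ q) (F₀ : Subfield F) (hcard : Fintype.card F = Nat.card F₀ ^ 2) (P : Matrix.GeneralLinearGroup (Fin n) F) (hP : Cfsg.Geo.IsFormRationalStructure (Cfsg.hermForm n F q) F₀ 1 P) : Cfsg.Geo.IsMaximalIn (Cfsg.GU n F q ⊓ Cfsg.Geo.specialLinear (Fin n) F) (Cfsg.Geo.subfieldSubgroup F₀ P ⊓ (Cfsg.GU n F q ⊓ Cfsg.Geo.specialLinear (Fin n) F)) := by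
  classical
  haveI hnz : NeZero n := ⟨by omega⟩
  obtain ⟨σ, hσ, hc⟩ := CfsgLib.Classical.exists_frob hF
  -- the subfield is the fixed field
  have hq : Nat.card F₀ = q := by
    have h1 : Nat.card F₀ ^ 2 = q ^ 2 := hcard ▸ hF
    exact Nat.pow_left_injective (by norm_num) h1
  haveI := Fintype.ofFinite F₀
  have hfix₁ : ∀ c ∈ F₀, σ c = c := fun c hc' => by
    have h := FiniteField.pow_card (⟨c, hc'⟩ : F₀)
    rw [← Nat.card_eq_fintype_card, hq] at h
    rw [hσ]
    exact congrArg Subtype.val h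
  have hfix : ∀ c, c ∈ F₀ ↔ σ c = c := by
    refine fun c => ⟨hfix₁ c, fun hc' => ?_⟩
    by_contra hcn
    refine hc.ne_id (RingHom.ext fun x => ?_)
    exact CfsgLib.Classical.SubfieldMax.eq_top_of_prime_degree Nat.prime_two hcard
      (σ.eqLocus (RingHom.id F)) (fun c hc' => hfix₁ c hc') (μ := c) hc' hcn x
  have h2 : (2 : F) ≠ 0 := by
    have hodd' : Fintype.card F % 2 = 1 := by rw [hF]; exact Nat.odd_iff.1 hodd.pow
    intro h
    have hch : ringChar F = 2 := by
      have hdvd : ringChar F ∣ 2 := ringChar.dvd (R := F) (x := 2) (by exact_mod_cast h)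
      exact (Nat.prime_two.eq_one_or_self_of_dvd _ hdvd).resolve_left CharP.ringChar_ne_one
    have := FiniteField.even_card_of_char_two hch
    omega
  obtain ⟨d, hd⟩ : ∃ d, σ d ≠ d := by
    by_contra h
    push Not at h
    exact hc.ne_id (RingHom.ext h)
  let B := CfsgLib.Classical.stdHerm σ n
  let Pm : Matrix (Fin n) (Fin n) F := P
  let Pi' : Matrix (Fin n) (Fin n) F := ((P⁻¹ : GL (Fin n) F) : Matrix _ _ F)
  have hPP : ∀ x, Pm.mulVec (Pi'.mulVec x) = x := fun x => by
    rw [Matrix.mulVec_mulVec, ← Units.val_mul, mul_inv_cancel, Units.val_one, Matrix.one_mulVec]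
  have hPP' : ∀ x, Pi'.mulVec (Pm.mulVec x) = x := fun x => by
    rw [Matrix.mulVec_mulVec, ← Units.val_mul, inv_mul_cancel, Units.val_one, Matrix.one_mulVec]
  let V₀ : Submodule F₀ (Fin n → F) :=
    { carrier := {x | ∀ i, Pi'.mulVec x i ∈ F₀}
      add_mem' := fun {a b} ha hb i => by rw [Matrix.mulVec_add]; exact add_mem (ha i) (hb i)
      zero_mem' := fun i => by rw [Matrix.mulVec_zero]; exact zero_mem F₀
      smul_mem' := fun c a ha i => by
        rw [CfsgLib.Classical.SubfieldMax.coe_smul_eq, Matrix.mulVec_smul]; exact mul_mem c.2 (ha i) }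
  have hcol : ∀ j, Pm.mulVec (Pi.single j 1) ∈ V₀ := fun j i => by
    rw [hPP', Pi.single_apply]; split_ifs <;> [exact one_mem F₀; exact zero_mem F₀]
  have hR : CfsgLib.Classical.SubfieldOrth.IsOFrame B V₀ (d - σ d) := by
    refine ⟨CfsgLib.Classical.stdHerm_isHermitian hc n, CfsgLib.Classical.stdHerm_sepRight n, hfix, h2,
      sub_ne_zero.2 (Ne.symm hd), by rw [map_sub, hc.invol, neg_sub], fun u hu v hv => ?_,
      eq_top_iff.2 fun x _ => ?_⟩
    · have h := hP _ _ hv hu
      rw [one_mul] at h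
      rwa [hPP, hPP, CfsgLib.Classical.hermForm_eq_stdHerm hσ] at h
    · rw [show x = ∑ j, Pi'.mulVec x j • Pm.mulVec (Pi.single j 1) by
        rw [← (Finset.sum_congr rfl fun j _ => Matrix.mulVec_smul Pm (Pi'.mulVec x j) (Pi.single j 1)),
          ← Matrix.mulVec_sum]
        conv_lhs => rw [← hPP x]
        congr 1
        ext i; simp [Finset.sum_apply, Pi.single_apply]]
      exact Submodule.sum_mem _ fun j _ => Submodule.smul_mem _ _ (Submodule.subset_span (hcol j))
  have h3 : Module.finrank F (Fin n → F) = 3 := by rw [Module.finrank_fin_fun, hn]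
  have hP' : ∀ g : CfsgLib.Classical.isomGroup B, CfsgLib.Classical.linToGL g.1 ∈ Geo.subfieldSubgroup F₀ P ↔
      ∃ s : F, s ≠ 0 ∧ ∀ f ∈ V₀, s • g.1 f ∈ V₀ := by
    intro g
    rw [CfsgLib.Classical.SubfieldMax.mem_subfieldSubgroup_iff]
    refine exists_congr fun c => and_congr_right fun _ => ⟨fun h f hf i => ?_, fun h a b => ?_⟩
    · have e : Pi'.mulVec (c • g.1 f) =
          (c • ((P⁻¹ * CfsgLib.Classical.linToGL g.1 * P : GL (Fin n) F) : Matrix _ _ F)).mulVec (Pi'.mulVec f) := by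
        rw [Matrix.mulVec_smul, Matrix.smul_mulVec, Units.val_mul, Units.val_mul, ← Matrix.mulVec_mulVec,
          ← Matrix.mulVec_mulVec, show (P : Matrix _ _ F).mulVec (Pi'.mulVec f) = f from hPP f,
          CfsgLib.Classical.linToGL_mulVec]
      rw [e]
      simp only [Matrix.mulVec, dotProduct]
      refine Subfield.sum_mem _ fun j _ => mul_mem ?_ (hf j)
      exact h i j
    · have := h _ (hcol b) a
      rw [Matrix.mulVec_smul, Pi.smul_apply, ← CfsgLib.Classical.linToGL_mulVec, Matrix.mulVec_mulVec,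
        Matrix.mulVec_mulVec, Matrix.mulVec_single_one] at this
      rw [Units.val_mul, Units.val_mul]
      exact this
  have hF2 : Module.finrank F₀ F = 2 := by
    have h := Module.natCard_eq_pow_finrank (K := F₀) (V := F)
    rw [Nat.card_eq_fintype_card, hcard] at h
    exact (Nat.pow_right_injective Finite.one_lt_card h).symm
  obtain ⟨μ, hμ⟩ : ∃ μ, μ ∉ F₀ := ⟨d, fun h => hd ((hfix d).1 h)⟩
  refine CfsgLib.Classical.UFrameMax.gu_isMaximalIn_special hσ _ (fun g => ∃ s : F, s ≠ 0 ∧ ∀ f ∈ V₀, s • g.1 f ∈ V₀) hP' ?_ ?_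
  · obtain ⟨u, hu0, huu⟩ := OrthSub.exists_iso hR h3
    obtain ⟨v, -, hvv, huv, hvu, -⟩ := OrthSub.exists_triple hR h3 huu hu0
    obtain ⟨t, ht⟩ := hR.herm.exists_uTv hR.nondeg (v := (u : _ → F)) (c := d - σ d) huu
      (by rw [map_sub, hc.invol]; ring)
    refine ⟨t, hR.herm.idet_uTv ht, fun ⟨s, hs, hsV⟩ => ?_⟩
    have h1 := hR.form _ v.2 _ (hsV _ u.2)
    rw [ht.2.2, huu, mul_zero, zero_smul, add_zero, map_smul, hvu, smul_eq_mul, mul_one] at h1
    have h2' := hR.form _ v.2 _ (hsV _ v.2)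
    rw [ht.2.2, huv, mul_one, map_smul, map_add, map_smul, hvv, hvu, zero_add, smul_eq_mul,
      smul_eq_mul, mul_one] at h2'
    have h3 := div_mem h2' h1
    rw [mul_div_cancel_left₀ _ hs] at h3
    have e := (hfix _).1 h3
    rw [hR.eps_tr] at e
    have : (2 : F) * (d - σ d) = 0 := by linear_combination -e
    exact hR.eps_ne ((mul_eq_zero.1 this).resolve_left h2)
  · intro M hMs hM g hg hgP
    have hO : GeoFour.SU.OrthSub.Over B V₀ M := ⟨fun x hx => MonoidHom.mem_ker.1 (hMs hx), hM⟩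
    by_cases hN : GeoFour.SU.OrthSub.NoTv M V₀
    · exact absurd (OrthSub.pres_of_noTv hR h3 hO hN (hq.symm ▸ h7) hg) hgP
    · simp only [GeoFour.SU.OrthSub.NoTv, not_forall] at hN
      obtain ⟨e, he0, he, g', hg', k, hgk, hk⟩ := hN
      exact OrthSub.sIsom_le_of_tv hR h3 hO he he0 hg' hgk hk (bigFixed_of_three hF hσ hc (by omega))

end CfsgLib.Classical.GeoThree.SU
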