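import Cfsg.Agent.Lib.Classical.GeoThree.SU.OrthSub.Basic
import Mathlib.Algebra.Polynomial.Roots

/-!
# Without transvections an overgroup of the three-dimensional orthogonal subfield group preserves the structure

A member is either rational up to a scalar or is so on the orthogonal of an anisotropic rational point. In the second
case a conjugate of a half turn is of neither kind.
-/

set_option autoImplicit false
set_option linter.unusedSectionVars false
set_option linter.unusedSimpArgs false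
set_option backward.isDefEq.respectTransparency false

open Module Polynomial

namespace CfsgLib.Classical.GeoThree.SU.OrthSub

open SubfieldOrth (IsOFrame)
open SubfieldMax (coe_smul_eq smul_mem')
open GeoFour.SU.OrthSub (Pres Over NoTv)

variable {F : Type*} [Field F] [Fintype F] {V : Type*} [AddCommGroup V] [Module F V] [FiniteDimensional F V]
  {σ : F →+* F} {F₀ : Subfield F} {B : V →ₛₗ[σ] V →ₗ[F] F} {V₀ : Submodule F₀ V} {ε : F}

/-- A nonzero polynomial of small degree has a nonroot. -/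
theorem exists_nonroot {K : Type*} [Field K] [Fintype K] {P : K[X]} (hP : P ≠ 0)
    (hd : P.natDegree < Fintype.card K) : ∃ t : K, P.eval t ≠ 0 := by
  classical
  by_contra h
  push Not at h
  have h1 : (Finset.univ : Finset K).card ≤ P.natDegree :=
    Finset.card_le_card (t := P.roots.toFinset) (fun t _ => Multiset.mem_toFinset.2 ((mem_roots hP).2 (h t)))
      |>.trans ((Multiset.toFinset_card_le _).trans (card_roots' P))
  rw [Finset.card_univ] at h1
  omega

variable (hR : IsOFrame B V₀ ε) (h3 : finrank F V = 3)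
include hR h3

/-- An orthogonal basis. -/
theorem ortho_basis {p q r : V₀} (hp : B (p : V) (p : V) ≠ 0) (hq : B (q : V) (q : V) ≠ 0)
    (hpq : B (p : V) (q : V) = 0) (hpr : B (p : V) (r : V) = 0) (hqr : B (q : V) (r : V) = 0) (hr : r ≠ 0) :
    B (r : V) (r : V) ≠ 0 ∧ ∀ z : V, z = (B (p : V) z / B (p : V) (p : V)) • (p : V) +
      (B (q : V) z / B (q : V) (q : V)) • (q : V) + (B (r : V) z / B (r : V) (r : V)) • (r : V) := by
  have hr' : (r : V) ≠ 0 := fun e => hr (Subtype.ext e)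
  have hqp := hR.symm_zero hpq
  have hrp := hR.symm_zero hpr
  have hrq := hR.symm_zero hqr
  set L : V →ₗ[F] F × F := (B (p : V)).prod (B (q : V)) with hL
  have hrange : LinearMap.range L = ⊤ := by
    refine LinearMap.range_eq_top.2 fun x =>
      ⟨(x.1 / B (p : V) (p : V)) • (p : V) + (x.2 / B (q : V) (q : V)) • (q : V), ?_⟩
    simp [hL, hpq, hqp, hp, hq]
  have hker : LinearMap.ker L = Submodule.span F {(r : V)} := by
    refine (Submodule.eq_of_le_of_finrank_eq ?_ ?_).symm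
    · rw [Submodule.span_singleton_le_iff_mem, LinearMap.mem_ker]
      simp [hL, hpr, hqr]
    · have h1 := L.finrank_range_add_finrank_ker
      rw [hrange, finrank_top, h3, Module.finrank_prod, Module.finrank_self] at h1
      rw [finrank_span_singleton hr']
      omega
  have hdec : ∀ z : V, ∃ c : F, z = (B (p : V) z / B (p : V) (p : V)) • (p : V) +
      (B (q : V) z / B (q : V) (q : V)) • (q : V) + c • (r : V) := fun z => by
    have hz : z - (B (p : V) z / B (p : V) (p : V)) • (p : V) - (B (q : V) z / B (q : V) (q : V)) • (q : V) ∈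
        LinearMap.ker L := by
      rw [LinearMap.mem_ker]
      simp [hL, hpq, hqp, hp, hq]
    rw [hker, Submodule.mem_span_singleton] at hz
    obtain ⟨c, hc⟩ := hz
    exact ⟨c, by rw [hc]; abel⟩
  have hrr : B (r : V) (r : V) ≠ 0 := fun e => hr' (hR.nondeg _ fun z => by
    obtain ⟨c, hc⟩ := hdec z
    rw [hc]
    simp [hpr, hqr, e])
  refine ⟨hrr, fun z => ?_⟩
  obtain ⟨c, hc⟩ := hdec z
  have h1 : B (r : V) z = c * B (r : V) (r : V) := by
    conv_lhs => rw [hc]
    simp [hrp, hrq]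
  rw [h1, mul_div_cancel_right₀ _ hrr]
  exact hc

/-- An anisotropic rational vector orthogonal to an anisotropic one. -/
theorem exists_aniso_perp {n : V₀} (hn : B (n : V) (n : V) ≠ 0) :
    ∃ w : V₀, B (n : V) (w : V) = 0 ∧ B (w : V) (w : V) ≠ 0 := by
  obtain ⟨w, hw0, hnw, -⟩ := exists_perp hR h3 n 0
  by_cases hww : B (w : V) (w : V) = 0
  · obtain ⟨f, b, hff, hwf, hfw, -⟩ := exists_triple hR h3 hww hw0
    let k : F₀ := ⟨B (n : V) (f : V) / B (n : V) (n : V), div_mem (hR.form _ n.2 _ f.2) (hR.form _ n.2 _ n.2)⟩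
    have hk : (k : F) = B (n : V) (f : V) / B (n : V) (n : V) := rfl
    set z := f - k • n with hz
    have hnz : B (n : V) (z : V) = 0 := by
      simp [hz, coe_smul_eq, hk, hn]
    have hwz : B (w : V) (z : V) = 1 := by
      simp [hz, coe_smul_eq, hwf, hR.symm_zero hnw]
    by_cases hzz : B (z : V) (z : V) = 0
    · exact ⟨w + z, by simp [hnw, hnz], by
        simp [hww, hzz, hwz, hR.comm₀ z w]
        exact fun e => hR.two (by linear_combination e)⟩
    · exact ⟨z, hnz, hzz⟩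
  · exact ⟨w, hnw, hww⟩

/-- Isotropic points parametrised by quadratics. -/
theorem exists_family : ∃ D : F₀ → V₀, (∀ t, B (D t : V) (D t : V) = 0 ∧ D t ≠ 0) ∧
    ∀ x : V₀, x ≠ 0 → ∃ q : F₀[X], q ≠ 0 ∧ q.natDegree ≤ 2 ∧ ∀ t, q.eval t ≠ 0 → B (x : V) (D t : V) ≠ 0 := by
  obtain ⟨d, hd0, hd⟩ := exists_iso hR h3
  obtain ⟨f, b, hff, hdf, hfd, hdb, hbd, hfb, hbf, hbb, hdec⟩ := exists_triple hR h3 hd hd0
  set c : F₀ := -(⟨B (b : V) (b : V), hR.form _ b.2 _ b.2⟩ / 2) with hc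
  have hce : (c : F) = -(B (b : V) (b : V) / 2) := rfl
  refine ⟨fun t => f + t • b + (c * t * t) • d, fun t => ⟨?_, fun e => ?_⟩, fun x hx => ?_⟩
  · have hbr := GeoFour.SU.OrthSub.real hR (a := b) (b := b)
    simp [coe_smul_eq, hd, hff, hdf, hfd, hdb, hbd, hfb, hbf, hR.sigma_coe, hce, hbr]
    rw [map_ofNat]
    have := hR.two
    field_simp
    ring
  · have h := congrArg (fun z : V₀ => B (d : V) (z : V)) e
    simp [coe_smul_eq, hd, hdf, hdb] at h
  refine ⟨C (hR.form₀ x f) + C (hR.form₀ x b) * X + C (c * hR.form₀ x d) * X ^ 2, fun e => ?_, by compute_degree,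
    fun t ht e => ht (Subtype.ext ?_)⟩
  · have e0 : hR.form₀ x f = 0 := by
      have := congrArg (fun P => Polynomial.coeff P 0) e; simpa [-map_mul] using this
    have e1 : hR.form₀ x b = 0 := by
      have := congrArg (fun P => Polynomial.coeff P 1) e; simpa [-map_mul, coeff_X, coeff_C] using this
    have e2 : c * hR.form₀ x d = 0 := by
      have := congrArg (fun P => Polynomial.coeff P 2) e; simpa [-map_mul, coeff_X, coeff_C] using this
    have hc0 : c ≠ 0 := fun h => hbb (by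
      have h' : (c : F) = 0 := by rw [h]; rfl
      rw [hce, neg_eq_zero, div_eq_zero_iff, or_iff_left hR.two] at h'
      exact h')
    have e2' := (mul_eq_zero.1 e2).resolve_left hc0
    refine hx (Subtype.ext (?_ : (x : V) = 0))
    rw [hdec (x : V), hR.symm_zero (hR.form₀_eq_zero.1 e0), hR.symm_zero (hR.form₀_eq_zero.1 e1),
      hR.symm_zero (hR.form₀_eq_zero.1 e2'), zero_div, zero_smul, zero_smul, zero_smul, add_zero, add_zero]
  · simp [coe_smul_eq] at e
    simp [hR.form₀_coe]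
    linear_combination e

variable {M : Subgroup (isomGroup B)} (hO : Over B V₀ M) (hN : NoTv M V₀) (h7 : 7 ≤ Nat.card F₀)
include hO hN h7

/-- Two nonorthogonal independent rational points with rational images. -/
theorem exists_pair {g : isomGroup B} (hg : g ∈ M) :
    ∃ x y : V₀, B (x : V) (x : V) ≠ 0 ∧ B (x : V) (y : V) ≠ 0 ∧ (∀ k : F₀, y ≠ k • x) ∧
      (∃ s : F, s ≠ 0 ∧ s • g.1 (x : V) ∈ V₀) ∧ ∃ s : F, s ≠ 0 ∧ s • g.1 (y : V) ∈ V₀ := by
  classical
  haveI := Fintype.ofFinite F₀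
  rw [Nat.card_eq_fintype_card] at h7
  obtain ⟨d, hd0, hd⟩ := exists_iso hR h3
  obtain ⟨D, hD, hfam⟩ := exists_family hR h3
  have key : ∀ t, ∀ x y : V₀, B (D t : V) (y : V) = 0 → y ≠ 0 → B (x : V) (D t : V) ≠ 0 → ∀ k : F₀, y ≠ k • x := by
    intro t x y hy hy0 hx k e
    have hk : k ≠ 0 := fun h => hy0 (by rw [e, h, zero_smul])
    rw [e, SetLike.val_smul, coe_smul_eq, map_smul, smul_eq_mul] at hy
    exact hx (hR.symm_zero ((mul_eq_zero.1 hy).resolve_left fun h => hk (Subtype.ext h)))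
  obtain ⟨x₁, h₁0, -, h₁₁, hs₁⟩ := exists_point hR h3 hO hN hg hd hd0
  obtain ⟨q₁, hq₁, hd₁, he₁⟩ := hfam x₁ h₁0
  obtain ⟨t₂, ht₂⟩ := exists_nonroot hq₁ (by omega)
  obtain ⟨x₂, h₂0, hD₂, h₂₂, hs₂⟩ := exists_point hR h3 hO hN hg (hD t₂).1 (hD t₂).2
  by_cases h₁₂ : B (x₁ : V) (x₂ : V) = 0
  swap
  · exact ⟨x₁, x₂, h₁₁, h₁₂, key t₂ x₁ x₂ hD₂ h₂0 (he₁ _ ht₂), hs₁, hs₂⟩
  obtain ⟨x₃, h₃0, h₁₃, h₂₃⟩ := exists_perp hR h3 x₁ x₂
  obtain ⟨h₃₃, hdec'⟩ := ortho_basis hR h3 h₁₁ h₂₂ h₁₂ h₁₃ h₂₃ h₃0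
  obtain ⟨q₂, hq₂, hd₂, he₂⟩ := hfam x₂ h₂0
  obtain ⟨q₃, hq₃, hd₃, he₃⟩ := hfam x₃ h₃0
  obtain ⟨t, ht⟩ := exists_nonroot (mul_ne_zero (mul_ne_zero hq₁ hq₂) hq₃) (by
    have e1 := natDegree_mul_le (p := q₁ * q₂) (q := q₃)
    have e2 := natDegree_mul_le (p := q₁) (q := q₂)
    omega)
  simp only [eval_mul, mul_ne_zero_iff] at ht
  obtain ⟨x, hx0, hDx, hxx, hsx⟩ := exists_point hR h3 hO hN hg (hD t).1 (hD t).2
  by_cases h₁ : B (x₁ : V) (x : V) = 0
  swap
  · exact ⟨x₁, x, h₁₁, h₁, key t x₁ x hDx hx0 (he₁ _ ht.1.1), hs₁, hsx⟩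
  by_cases h₂ : B (x₂ : V) (x : V) = 0
  swap
  · exact ⟨x₂, x, h₂₂, h₂, key t x₂ x hDx hx0 (he₂ _ ht.1.2), hs₂, hsx⟩
  exfalso
  let k : F₀ := ⟨B (x₃ : V) (x : V) / B (x₃ : V) (x₃ : V), div_mem (hR.form _ x₃.2 _ x.2) (hR.form _ x₃.2 _ x₃.2)⟩
  refine key t x₃ x hDx hx0 (he₃ _ ht.2) k (Subtype.ext ?_)
  rw [SetLike.val_smul, coe_smul_eq]
  conv_lhs => rw [hdec' (x : V), h₁, h₂, zero_div, zero_smul, zero_div, zero_smul, zero_add, zero_add]

/-- A member is rational up to a scalar, or is so on the orthogonal of an anisotropic rational point. -/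
theorem plane_or_pres {g : isomGroup B} (hg : g ∈ M) :
    Pres V₀ g ∨ ∃ n : V₀, B (n : V) (n : V) ≠ 0 ∧
      ∃ s : F, s ≠ 0 ∧ ∀ x : V₀, B (n : V) (x : V) = 0 → s • g.1 (x : V) ∈ V₀ := by
  obtain ⟨x, y, hxx, hxy, hind, ⟨s, hs, hsx⟩, ⟨s', hs', hsy⟩⟩ := exists_pair hR h3 hO hN h7 hg
  -- a common scalar
  have hss : σ s * s ∈ F₀ := (hR.fixed _).2 (by rw [map_mul, hR.invol]; ring)
  have hss' : σ s * s' ∈ F₀ := by
    have h := hR.form _ hsx _ hsy
    rw [map_smul, map_smulₛₗ, LinearMap.smul_apply, isomGroup_apply, smul_eq_mul, smul_eq_mul, ← mul_assoc, mul_comm s' (σ s)] at h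
    have := div_mem h (hR.form _ x.2 _ y.2)
    rwa [mul_div_cancel_right₀ _ hxy] at this
  have hsy' : s • g.1 (y : V) ∈ V₀ := by
    have h := smul_mem' (div_mem hss hss') hsy
    rw [smul_smul, div_mul_eq_mul_div, mul_assoc, mul_div_mul_left _ _ ((map_ne_zero σ).2 hs),
      mul_div_cancel_right₀ _ hs'] at h
    exact h
  let k : F₀ := ⟨B (x : V) (y : V) / B (x : V) (x : V), div_mem (hR.form _ x.2 _ y.2) (hR.form _ x.2 _ x.2)⟩
  have hk : (k : F) = B (x : V) (y : V) / B (x : V) (x : V) := rfl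
  set y' := y - k • x with hy'
  have hy'0 : y' ≠ 0 := sub_ne_zero.2 (hind k)
  have hxy' : B (x : V) (y' : V) = 0 := by simp [hy', coe_smul_eq, hk, hxx]
  have hsy'' : s • g.1 (y' : V) ∈ V₀ := by
    rw [hy', Submodule.coe_sub, SetLike.val_smul, coe_smul_eq, map_sub, map_smul, smul_sub, smul_comm]
    exact sub_mem hsy' (smul_mem' k.2 hsx)
  by_cases hy'' : B (y' : V) (y' : V) = 0
  · exact Or.inl (pres_of_image hR h3 hO hN hg hy'' hy'0 (e := ⟨_, hsy''⟩) (μ := s⁻¹)
      (by rw [smul_smul, inv_mul_cancel₀ hs, one_smul]))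
  obtain ⟨n, hn0, hxn, hyn⟩ := exists_perp hR h3 x y'
  obtain ⟨hnn, hdec⟩ := ortho_basis hR h3 hxx hy'' hxy' hxn hyn hn0
  refine Or.inr ⟨n, hnn, s, hs, fun z hz => ?_⟩
  rw [hdec (z : V), hz, zero_div, zero_smul, add_zero, map_add, map_smul, map_smul, smul_add, smul_comm s,
    smul_comm s]
  exact add_mem (smul_mem' (div_mem (hR.form _ x.2 _ z.2) (hR.form _ x.2 _ x.2)) hsx)
    (smul_mem' (div_mem (hR.form _ y'.2 _ z.2) (hR.form _ y'.2 _ y'.2)) hsy'')

/-- Without transvections every member is rational up to a scalar. -/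
theorem pres_of_noTv {g : isomGroup B} (hg : g ∈ M) : Pres V₀ g := by
  classical
  rcases plane_or_pres hR h3 hO hN h7 hg with h | ⟨n, hnn, s, hs, hsW⟩
  · exact h
  obtain ⟨w, hnw, hww⟩ := exists_aniso_perp hR h3 hnn
  obtain ⟨z₀, hz0, hnz, hwz⟩ := exists_perp hR h3 n w
  obtain ⟨hzz, hdec⟩ := ortho_basis hR h3 hnn hww hnw hnz hwz hz0
  obtain ⟨W, hWe⟩ : ∃ W : V₀, (W : V) = s • g.1 (w : V) := ⟨⟨_, hsW w hnw⟩, rfl⟩
  obtain ⟨Z, hZe⟩ : ∃ Z : V₀, (Z : V) = s • g.1 (z₀ : V) := ⟨⟨_, hsW z₀ hnz⟩, rfl⟩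
  have hss : σ s * s ≠ 0 := mul_ne_zero ((map_ne_zero σ).2 hs) hs
  have hgB : ∀ u v : V, B (s • g.1 u) (s • g.1 v) = σ s * s * B u v := fun u v => by
    rw [map_smul, map_smulₛₗ, LinearMap.smul_apply, isomGroup_apply, smul_eq_mul, smul_eq_mul]
    ring
  have hWW : B (W : V) (W : V) ≠ 0 := by rw [hWe, hgB]; exact mul_ne_zero hss hww
  have hZZ : B (Z : V) (Z : V) ≠ 0 := by rw [hZe, hgB]; exact mul_ne_zero hss hzz
  have hWZ : B (W : V) (Z : V) = 0 := by rw [hWe, hZe, hgB, hwz, mul_zero]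
  obtain ⟨N, hN0, hWN, hZN⟩ := exists_perp hR h3 W Z
  obtain ⟨hNN, hdec'⟩ := ortho_basis hR h3 hWW hZZ hWZ hWN hZN hN0
  set ν := B (N : V) (s • g.1 (n : V)) / B (N : V) (N : V)
  have hνN : s • g.1 (n : V) = ν • (N : V) := by
    conv_lhs => rw [hdec' (s • g.1 (n : V))]
    simp only [hWe, hZe, hgB, hR.symm_zero hnw, hR.symm_zero hnz, mul_zero, zero_div, zero_smul, zero_add]
    rfl
  have hν0 : ν ≠ 0 := fun e => mul_ne_zero hss hnn (by rw [← hgB, hνN, e, zero_smul]; simp)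
  by_cases hνF : ν ∈ F₀
  · refine ⟨s, hs, fun z hz => ?_⟩
    rw [hdec z, map_add, map_add, map_smul, map_smul, map_smul, smul_add, smul_add, smul_comm s,
      smul_comm s (B (w : V) z / _), smul_comm s (B (z₀ : V) z / _), ← hWe, ← hZe]
    refine add_mem (add_mem (smul_mem' (div_mem (hR.form _ n.2 _ hz) (hR.form _ n.2 _ n.2)) ?_)
      (smul_mem' (div_mem (hR.form _ w.2 _ hz) (hR.form _ w.2 _ w.2)) W.2))
      (smul_mem' (div_mem (hR.form _ z₀.2 _ hz) (hR.form _ z₀.2 _ z₀.2)) Z.2)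
    rw [hνN]
    exact smul_mem' hνF N.2
  exfalso
  -- the half turn about an image
  set A := B (W : V) (W : V) with hA
  have hAF : A ∈ F₀ := hR.form _ W.2 _ W.2
  have hmF : σ ν * ν * B (N : V) (N : V) ∈ F₀ :=
    mul_mem ((hR.fixed _).2 (by rw [map_mul, hR.invol]; ring)) (hR.form _ N.2 _ N.2)
  haveI := Fintype.ofFinite F₀
  set m : F₀ := ⟨_, hmF⟩ with hm
  set A₀ : F₀ := ⟨A, hAF⟩ with hA₀
  have hm0 : m ≠ 0 := fun e => mul_ne_zero (mul_ne_zero ((map_ne_zero σ).2 hν0) hν0) hNN (congrArg Subtype.val e)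
  have hA0 : A₀ ≠ 0 := fun e => hWW (congrArg Subtype.val e)
  obtain ⟨a, ha⟩ := exists_nonroot (K := F₀) (P := (X * (C A₀ - C m * X ^ 2)) * (C A₀ + C m * X ^ 2))
    (mul_ne_zero (mul_ne_zero X_ne_zero fun e => hA0 (by simpa using congrArg (fun P => Polynomial.coeff P 0) e))
      fun e => hA0 (by simpa using congrArg (fun P => Polynomial.coeff P 0) e))
    (by
      rw [Nat.card_eq_fintype_card] at h7
      have e1 : (C A₀ - C m * X ^ 2).natDegree ≤ 2 := by compute_degree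
      have e2 : (C A₀ + C m * X ^ 2).natDegree ≤ 2 := by compute_degree
      have e3 := natDegree_mul_le (p := (X : F₀[X]) * (C A₀ - C m * X ^ 2)) (q := C A₀ + C m * X ^ 2)
      have e4 := natDegree_mul_le (p := (X : F₀[X])) (q := C A₀ - C m * X ^ 2)
      rw [natDegree_X] at e4
      omega)
  simp only [eval_mul, eval_sub, eval_add, eval_C, eval_X, eval_pow, mul_ne_zero_iff] at ha
  obtain ⟨⟨ha0, ham⟩, hap⟩ := ha
  have ha0' : (a : F) ≠ 0 := fun e => ha0 (Subtype.ext e)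
  have ham' : A - σ ν * ν * B (N : V) (N : V) * (a : F) ^ 2 ≠ 0 := fun e => ham (Subtype.ext (by simpa [hm, hA₀] using e))
  have hap' : A + σ ν * ν * B (N : V) (N : V) * (a : F) ^ 2 ≠ 0 := fun e => hap (Subtype.ext (by simpa [hm, hA₀] using e))
  set p := w + a • n with hp
  obtain ⟨y, hy⟩ : ∃ y : V, y = (W : V) + ((a : F) * ν) • (N : V) := ⟨_, rfl⟩
  have hgp : s • g.1 (p : V) = y := by
    rw [hp, hy, Submodule.coe_add, SetLike.val_smul, coe_smul_eq, map_add, map_smul, smul_add, smul_comm, hνN,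
      smul_smul, hWe]
  have hyW : B y (W : V) = A := by simp [hy, hA, hR.symm_zero hWN]
  have hyy : B y y = A + σ ν * ν * B (N : V) (N : V) * (a : F) ^ 2 := by
    simp [hy, hA, hR.symm_zero hWN, hWN, hR.sigma_coe]
    ring
  have hyy0 : B y y ≠ 0 := by rw [hyy]; exact hap'
  have hpp : B (p : V) (p : V) ≠ 0 := fun e => hyy0 (by rw [← hgp, hgB, e, mul_zero])
  obtain ⟨r, hrM, -, hr⟩ := exists_rat_turn hR h3 hO hpp
  set τ := g * r * g⁻¹ with hτdef
  have hτM : τ ∈ M := mul_mem (mul_mem hg hrM) (inv_mem hg)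
  have hτ : ∀ z, τ.1 z = (2 / B y y * B y z) • y - z := by
    intro z
    obtain ⟨v, rfl⟩ := g.1.surjective z
    change g.1 (r.1 (g.1.symm (g.1 v))) = _
    rw [LinearEquiv.symm_apply_apply, hr, map_sub, map_smul, ← hgp, hgB, map_smulₛₗ, LinearMap.smul_apply,
      isomGroup_apply, smul_eq_mul, smul_smul]
    congr 2
    have : σ s ≠ 0 := (map_ne_zero σ).2 hs
    field_simp
  have hyirr : ∀ c : F, c • y ∈ V₀ → c = 0 := by
    intro c hc
    by_contra hc0
    have h1 := hR.form _ W.2 _ hc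
    have h2 := hR.form _ N.2 _ hc
    rw [map_smul, hy, map_add, map_smul, hWN, smul_eq_mul, smul_eq_mul, mul_zero, add_zero, ← hA] at h1
    rw [map_smul, hy, map_add, map_smul, hR.symm_zero hWN, smul_eq_mul, smul_eq_mul, zero_add] at h2
    have hcF : c ∈ F₀ := by have := div_mem h1 hAF; rwa [mul_div_cancel_right₀ _ hWW] at this
    have := div_mem h2 (mul_mem (mul_mem hcF a.2) (hR.form _ N.2 _ N.2))
    rw [show c * ((a : F) * ν * B (N : V) (N : V)) / (c * (a : F) * B (N : V) (N : V)) = ν by field_simp] at this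
    exact hνF this
  have hyZ : B y (Z : V) = 0 := by simp [hy, hWZ, hR.symm_zero hZN]
  have hτZ : τ.1 (Z : V) = -(Z : V) := by rw [hτ, hyZ, mul_zero, zero_smul, zero_sub]
  obtain ⟨t, ht0, htW⟩ : ∃ t : F, t ≠ 0 ∧ t • τ.1 (W : V) ∈ V₀ := by
    rcases plane_or_pres hR h3 hO hN h7 hτM with ⟨t, ht, htV⟩ | ⟨n₁, h₁₁, t, ht, htV⟩
    · exact ⟨t, ht, htV _ W.2⟩
    refine ⟨t, ht, htV W ?_⟩
    -- the orthogonal of `n₁` is orthogonal to `Z`
    have horth : ∀ x : V₀, B (n₁ : V) (x : V) = 0 → B (Z : V) (x : V) = 0 := by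
      intro x hx
      by_contra hZx
      have h1 : B (τ.1 (Z : V)) (τ.1 (x : V)) = B (Z : V) (x : V) := isomGroup_apply τ _ _
      rw [hτZ, map_neg, LinearMap.neg_apply] at h1
      have h2 := hR.form _ Z.2 _ (htV x hx)
      rw [map_smul, smul_eq_mul, ← neg_neg (B (Z : V) (τ.1 (x : V))), h1] at h2
      have htF : t ∈ F₀ := by
        have := neg_mem (div_mem h2 (hR.form _ Z.2 _ x.2))
        rwa [mul_neg, neg_div, neg_neg, mul_div_cancel_right₀ _ hZx] at this
      obtain ⟨x', hx'0, hnx', hZx'⟩ := exists_perp hR h3 n₁ Z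
      have hmem : (2 / B y y * B y (x' : V)) • y ∈ V₀ := by
        have h := smul_mem' (inv_mem htF) (htV x' hnx')
        rw [smul_smul, inv_mul_cancel₀ ht, one_smul, hτ] at h
        simpa using add_mem h x'.2
      have hyx : B y (x' : V) = 0 := by
        rcases mul_eq_zero.1 (hyirr _ hmem) with e | e
        · exact absurd e (div_ne_zero hR.two hyy0)
        · exact e
      rw [hy, map_add, LinearMap.add_apply, map_smulₛₗ, LinearMap.smul_apply, smul_eq_mul, map_mul,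
        hR.sigma_coe] at hyx
      by_cases hNx : B (N : V) (x' : V) = 0
      · rw [hNx, mul_zero, add_zero] at hyx
        refine hx'0 (Subtype.ext (?_ : (x' : V) = 0))
        rw [hdec' (x' : V), hyx, hNx, hZx', zero_div, zero_smul, zero_div, zero_smul, zero_div, zero_smul, add_zero,
          add_zero]
      · refine hνF ?_
        have e : (a : F) * σ ν = -B (W : V) (x' : V) / B (N : V) (x' : V) := by
          rw [eq_div_iff hNx]
          linear_combination hyx
        have h3' : σ ν ∈ F₀ := by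
          have h4 : (a : F) * σ ν ∈ F₀ := e ▸ div_mem (neg_mem (hR.form _ W.2 _ x'.2)) (hR.form _ N.2 _ x'.2)
          have := div_mem h4 a.2
          rwa [mul_div_cancel_left₀ _ ha0'] at this
        have := (hR.fixed _).1 h3'
        rw [hR.invol] at this
        rwa [← this] at h3'
    have key : ∀ v : V₀, B (Z : V) (v : V) -
        B (n₁ : V) (v : V) / B (n₁ : V) (n₁ : V) * B (Z : V) (n₁ : V) = 0 := by
      intro v
      let c : F₀ := ⟨B (n₁ : V) (v : V) / B (n₁ : V) (n₁ : V),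
        div_mem (hR.form _ n₁.2 _ v.2) (hR.form _ n₁.2 _ n₁.2)⟩
      have hc : (c : F) = B (n₁ : V) (v : V) / B (n₁ : V) (n₁ : V) := rfl
      have := horth (v - c • n₁) (by simp [coe_smul_eq, hc, h₁₁])
      simpa [coe_smul_eq, hc] using this
    have hZn : B (Z : V) (n₁ : V) ≠ 0 := fun e => hZZ (by simpa [e] using key Z)
    have := key W
    rw [hR.symm_zero hWZ, zero_sub, neg_eq_zero, mul_eq_zero, or_iff_left hZn, div_eq_zero_iff,
      or_iff_left h₁₁] at this
    exact this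
  have h1 := hR.form _ W.2 _ htW
  have h2 := hR.form _ N.2 _ htW
  have hWy : B (W : V) y = A := by simp [hy, hWN, hA]
  have hNy : B (N : V) y = (a : F) * ν * B (N : V) (N : V) := by simp [hy, hR.symm_zero hWN]
  rw [map_smul, hτ, map_sub, map_smul, hWy, hyW, hyy, ← hA, smul_eq_mul, smul_eq_mul] at h1
  rw [map_smul, hτ, map_sub, map_smul, hNy, hyW, hyy, hR.symm_zero hWN, sub_zero, smul_eq_mul, smul_eq_mul] at h2
  set S := σ ν * ν * B (N : V) (N : V) * (a : F) ^ 2 with hS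
  have hSF : S ∈ F₀ := mul_mem hmF (pow_mem a.2 2)
  have htF : t ∈ F₀ := by
    have h := div_mem h1 (div_mem (mul_mem hAF (sub_mem hAF hSF)) (add_mem hAF hSF))
    rwa [show t * (2 / (A + S) * A * A - A) / (A * (A - S) / (A + S)) = t by
      field_simp
      ring] at h
  refine hνF ?_
  have h := div_mem h2 (div_mem (mul_mem (mul_mem (mul_mem (mul_mem htF ((hR.fixed _).2 (map_ofNat σ 2))) hAF) a.2)
    (hR.form _ N.2 _ N.2)) (add_mem hAF hSF))
  rwa [show t * (2 / (A + S) * A * ((a : F) * ν * B (N : V) (N : V))) /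
      (t * 2 * A * (a : F) * B (N : V) (N : V) / (A + S)) = ν by
    have := hR.two
    field_simp] at h

end CfsgLib.Classical.GeoThree.SU.OrthSub
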